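import Cfsg.Agent.H125.Hall.Defs

/-!
# S2223: T6 (`card_dvd_aut`) and T7 (`pr_of_rep`)
-/

set_option autoImplicit false

namespace Cfsg.Agent.H910.Hall

open Subgroup Cfsg.Agent.Cit Cfsg.Agent.H125.Hall commutatorElement

section Aut

/-- the action of automorphisms on the central quotient -/
def quoA (L : Type*) [Group L] : MulAut L →* MulAut (L ⧸ center L) where
  toFun φ := QuotientGroup.congr (center L) (center L) φ (by
    have h := (inferInstance : (center L).Characteristic)
    exact characteristic_iff_map_eq.1 h φ)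
  map_one' := by
    apply MulEquiv.ext
    intro x
    obtain ⟨x, rfl⟩ := QuotientGroup.mk_surjective x
    rfl
  map_mul' φ ψ := by
    apply MulEquiv.ext
    intro x
    obtain ⟨x, rfl⟩ := QuotientGroup.mk_surjective x
    rfl

theorem quoA_mk {L : Type*} [Group L] (φ : MulAut L) (x : L) : quoA L φ (x : L ⧸ center L) = (φ x : L) := rfl

/-- An automorphism of a perfect group trivial modulo the centre is trivial. -/
theorem eq_one_of_quot {K : Type*} [Group K] (hK : commutator K = ⊤) (f : MulAut K)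
    (h : ∀ x : K, f x * x⁻¹ ∈ center K) : f = 1 := by
  have hc : ∀ x y : K, y * (f x * x⁻¹) = (f x * x⁻¹) * y := fun x y => mem_center_iff.1 (h x) y
  have h1 : commutator K ≤ MonoidHom.eqLocus f.toMonoidHom (MonoidHom.id K) := by
    rw [commutator_def]
    refine commutator_le.2 fun x _ y _ => ?_
    show f ⁅x, y⁆ = ⁅x, y⁆
    rw [map_commutatorElement, commutatorElement_def, commutatorElement_def]
    have hx : f x = (f x * x⁻¹) * x := by group
    have hy : f y = (f y * y⁻¹) * y := by group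
    have hcx := hc x
    have hcy := hc y
    generalize f x * x⁻¹ = c at *
    generalize f y * y⁻¹ = d at *
    rw [hx, hy]
    have e1 : ∀ w, c * w * c⁻¹ = w := fun w => by rw [← hcx w, mul_inv_cancel_right]
    have e2 : ∀ w, d * w * d⁻¹ = w := fun w => by rw [← hcy w, mul_inv_cancel_right]
    calc c * x * (d * y) * (c * x)⁻¹ * (d * y)⁻¹ = c * ((x * d) * y * x⁻¹) * c⁻¹ * (y⁻¹ * d⁻¹) := by group
      _ = d * (x * y * x⁻¹ * y⁻¹) * d⁻¹ := by rw [e1, hcy x]; group
      _ = x * y * x⁻¹ * y⁻¹ := e2 _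
  rw [hK] at h1
  exact MulEquiv.ext fun x => h1 (mem_top x)

theorem quoA_injective {K : Type*} [Group K] (hK : commutator K = ⊤) : Function.Injective (quoA K) := by
  rw [injective_iff_map_eq_one]
  intro f hf
  refine eq_one_of_quot hK f fun x => ?_
  have h1 : quoA K f (x : K ⧸ center K) = (x : K ⧸ center K) := by rw [hf]; rfl
  rw [quoA_mk, QuotientGroup.eq] at h1
  have h2 := inv_mem h1
  rw [mul_inv_rev, inv_inv] at h2
  have h3 := mem_center_iff.1 h2
  have e : f x * x⁻¹ = x * (x⁻¹ * f x) * x⁻¹ := by group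
  rw [e, h3 x]
  simpa using h2

variable {A : Type*} [Group A]

/-- conjugation by elements which normalise `L` -/
def conjP (L P : Subgroup A) (hP : ∀ a ∈ P, ∀ x ∈ L, a * x * a⁻¹ ∈ L) : P →* MulAut L where
  toFun a :=
    { toFun := fun x => ⟨a * x * (a : A)⁻¹, hP a a.2 x x.2⟩
      invFun := fun x => ⟨(a : A)⁻¹ * x * (a : A), by simpa using hP (a : A)⁻¹ (inv_mem a.2) x x.2⟩
      left_inv := fun x => Subtype.ext (by simp [mul_assoc])
      right_inv := fun x => Subtype.ext (by simp [mul_assoc])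
      map_mul' := fun x y => Subtype.ext (by simp [mul_assoc]) }
  map_one' := by
    apply MulEquiv.ext
    intro x
    exact Subtype.ext (by simp)
  map_mul' a b := by
    apply MulEquiv.ext
    intro x
    exact Subtype.ext (by simp [mul_assoc])

theorem conjP_apply (L P : Subgroup A) (hP : ∀ a ∈ P, ∀ x ∈ L, a * x * a⁻¹ ∈ L) (a : P) (x : L) :
    ((conjP L P hP a x : L) : A) = a * x * (a : A)⁻¹ := rfl

theorem ker_conjP (L P : Subgroup A) (hP : ∀ a ∈ P, ∀ x ∈ L, a * x * a⁻¹ ∈ L) :
    (conjP L P hP).ker.map P.subtype = P ⊓ centralizer (L : Set A) := by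
  ext a
  simp only [mem_map, MonoidHom.mem_ker, mem_inf, mem_centralizer_iff]
  constructor
  · rintro ⟨b, hb, rfl⟩
    refine ⟨b.2, fun x hx => ?_⟩
    have h1 : ((conjP L P hP b ⟨x, hx⟩ : L) : A) = x := by rw [hb]; rfl
    rw [conjP_apply] at h1
    exact (mul_inv_eq_iff_eq_mul.1 h1).symm
  · rintro ⟨ha, hc⟩
    refine ⟨⟨a, ha⟩, ?_, rfl⟩
    apply MulEquiv.ext
    intro x
    apply Subtype.ext
    rw [conjP_apply]
    exact mul_inv_eq_iff_eq_mul.2 (hc x x.2).symm

/-- T6 -/
theorem card_dvd_aut [Finite A] {L : Subgroup A} (hL : Cfsg.IsQuasisimple L) (P : Subgroup A)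
    (hP : ∀ a ∈ P, ∀ x ∈ L, a * x * a⁻¹ ∈ L) :
    Nat.card P ∣ Nat.card ↥(P ⊓ centralizer (L : Set A)) * Nat.card (MulAut (↥L ⧸ Subgroup.center ↥L)) := by
  have hc : commutator L = ⊤ := (Group.isPerfect_def.1 hL.1)
  have h1 : Nat.card (conjP L P hP).ker = Nat.card ↥(P ⊓ centralizer (L : Set A)) := by
    rw [← ker_conjP L P hP]
    exact (Nat.card_congr ((conjP L P hP).ker.equivMapOfInjective P.subtype P.subtype_injective).toEquiv)
  have h2 : Nat.card P = Nat.card (conjP L P hP).ker * Nat.card (conjP L P hP).range := by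
    rw [← Subgroup.index_ker, Subgroup.card_mul_index]
  rw [h2, h1]
  refine Nat.mul_dvd_mul_left _ ((Subgroup.card_subgroup_dvd_card _).trans ?_)
  exact Subgroup.card_dvd_of_injective (quoA L) (quoA_injective hc)

end Aut

/-- T7 -/
theorem pr_of_rep {k : Type} [Field k] {V : Type} [AddCommGroup V] [Module k V] [FiniteDimensional k V] {A : Type}
    [Group A] [Finite A] (ρ : A →* (V →ₗ[k] V)) {L : Subgroup A} (hL : Cfsg.IsQuasisimple L)
    (hc : (Nat.card L : k) ≠ 0) (W : Submodule k V) (hW : ∀ x ∈ L, ∀ v ∈ W, ρ x v ∈ W)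
    (hn : ¬ ∀ x ∈ L, ∀ v ∈ W, ρ x v = v) : PR (Module.finrank k W) (↥L ⧸ Subgroup.center ↥L) := by
  have hcm : commutator L = ⊤ := (Group.isPerfect_def.1 hL.1)
  let b := Module.finBasis k W
  let σ : L →* (W →ₗ[k] W) :=
    { toFun := fun x => (ρ x).restrict fun v hv => hW x x.2 v hv
      map_one' := by
        ext v
        simp
      map_mul' := fun x y => by
        ext v
        simp }
  have hσ : ∀ (x : L) (v : W), ((σ x v : W) : V) = ρ x v := fun x v => rfl
  let τ : L →* Matrix (Fin (Module.finrank k W)) (Fin (Module.finrank k W)) k :=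
    ((LinearMap.toMatrixAlgEquiv b : (W →ₗ[k] W) ≃ₐ[k] _) : (W →ₗ[k] W) →* _).comp σ
  refine ⟨k, inferInstance, L, inferInstance, inferInstance, QuotientGroup.mk' _, τ.toHomUnits,
    QuotientGroup.mk'_surjective _, (QuotientGroup.ker_mk' _).le, hcm, fun h => hn fun x hx v hv => ?_, fun h => hc ?_⟩
  · have h1 : τ ⟨x, hx⟩ = 1 := by
      have h2 : (τ.toHomUnits ⟨x, hx⟩ : (Matrix (Fin (Module.finrank k W)) (Fin (Module.finrank k W)) k)ˣ) = 1 := by
        rw [h]
        rfl
      rw [← MonoidHom.coe_toHomUnits, h2, Units.val_one]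
    have h3 : σ ⟨x, hx⟩ = 1 := by
      apply (LinearMap.toMatrixAlgEquiv b).injective
      rw [map_one]
      exact h1
    have h4 := hσ ⟨x, hx⟩ ⟨v, hv⟩
    rw [h3] at h4
    exact h4.symm
  · obtain ⟨m, hm⟩ := Subgroup.card_quotient_dvd_card (center L)
    rw [hm, Nat.cast_mul, h, zero_mul]

end Cfsg.Agent.H910.Hall
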